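import Cfsg.Agent.ChevPG.Frame2
import Cfsg.Agent.ChevF.E6L

set_option autoImplicit false

/-!
# Eigenvectors modulo primes and torus elements (helper19)
-/

namespace Cfsg.Agent.ChevPG

open Cfsg.Lie Cfsg.Agent.Chev Cfsg.Agent.ChevGrp Cfsg.Agent.ChevF Matrix Polynomial

section poly

variable {l : ℕ} {M : Matrix (Fin l) (Fin l) ℤ}

theorem cyc_dvd_charpoly {N : ℕ} (hN : 0 < N) (hM : M ^ N = 1) {r : ℕ} [Fact r.Prime] (hrN : ¬ r ∣ N)
    {q : ZMod r} {a : Fin l → ZMod r} (ha : a ≠ 0) (h : a ᵥ* M.map (Int.castRingHom (ZMod r)) = q • a) (hd0 : 0 < orderOf q) :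
    cyclotomic (orderOf q) ℤ ∣ M.charpoly := by
  obtain ⟨v, hv0, hv⟩ := exists_vec (M := M) hN hM hrN ha h
  set d := orderOf q with hd
  set Mq := M.map (Int.castRingHom ℚ) with hMq
  have hirr : Irreducible (cyclotomic d ℚ) := cyclotomic.irreducible_rat hd0
  have haev : ∀ p : ℤ[X], (aeval M p).map (Int.castRingHom ℚ) = aeval Mq (p.map (Int.castRingHom ℚ)) := fun p =>
    Polynomial.map_aeval_eq_aeval_map (R := ℤ) (S := Matrix (Fin l) (Fin l) ℤ) (T := ℚ)
        (U := Matrix (Fin l) (Fin l) ℚ) (φ := Int.castRingHom ℚ)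
        (ψ := RingHom.mapMatrix (m := Fin l) (Int.castRingHom ℚ)) (by ext; simp) p M
  have hvq : (aeval Mq (cyclotomic d ℚ)) *ᵥ (fun i => ((v i : ℤ) : ℚ)) = 0 := by
    rw [← map_cyclotomic d (Int.castRingHom ℚ), ← haev]
    funext i
    have h6 := congrFun hv i
    simp only [mulVec, dotProduct, Pi.zero_apply] at h6 ⊢
    have h7 := congrArg (Int.cast : ℤ → ℚ) h6
    push_cast at h7
    exact h7
  have hvq0 : (fun i => ((v i : ℤ) : ℚ)) ≠ 0 := by
    intro h0
    apply hv0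
    funext i
    have := congrFun h0 i
    simpa using this
  have h1 : cyclotomic d ℚ ∣ Mq.charpoly := by
    apply dvd_of_kill hirr hvq0 hvq
    rw [Matrix.aeval_self_charpoly, Matrix.zero_mulVec]
  rw [hMq, Matrix.charpoly_map, ← map_cyclotomic d (Int.castRingHom ℚ)] at h1
  exact (Polynomial.map_dvd_map (Int.castRingHom ℚ) Int.cast_injective (cyclotomic.monic d ℤ)).1 h1

theorem exists_eig {d r : ℕ} [Fact r.Prime] {q : ZMod r} (hq : orderOf q = d) (hrd : ¬ r ∣ d) (h : cyclotomic d ℤ ∣ M.charpoly) :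
    ∃ β : Fin l → ZMod r, β ≠ 0 ∧ β ᵥ* M.map (Int.castRingHom (ZMod r)) = q • β := by
  haveI : NeZero (d : ZMod r) := ⟨fun h => hrd ((ZMod.natCast_eq_zero_iff d r).1 h)⟩
  have h1 : (cyclotomic d (ZMod r)).IsRoot q := by
    rw [isRoot_cyclotomic_iff, ← hq]
    exact IsPrimitiveRoot.orderOf q
  have h2 : ((M.map (Int.castRingHom (ZMod r))).charpoly).IsRoot q := by
    rw [Matrix.charpoly_map]
    have h3 := Polynomial.map_dvd (Int.castRingHom (ZMod r)) h
    rw [map_cyclotomic] at h3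
    exact h1.dvd h3
  rw [IsRoot.def, Matrix.eval_charpoly] at h2
  obtain ⟨β, hβ, h3⟩ := Matrix.exists_vecMul_eq_zero_iff.2 h2
  refine ⟨β, hβ, ?_⟩
  rw [Matrix.vecMul_sub, sub_eq_zero] at h3
  rw [← h3]
  simp [Matrix.scalar_apply, Matrix.vecMul_diagonal_const]

end poly

section

variable {D : ChevalleyDatum} (E : DData D) {K : Type*} [Field K] [Fintype K]

/-- a torus element with given logarithms -/
theorem exists_t2 (hD : D ∈ data) (hTK : ∀ χ : ℕ → Kˣ, ChevU.torHom D K χ ∈ D.diagonalSubgroup K) {r : ℕ} [hr : Fact r.Prime]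
    {z : K} (hz : IsPrimitiveRoot z r) {u : Equiv.Perm (Fin D.nroots)} (hu : u ∈ E.rp.wsys.W) {q : ℕ}
    {β : Fin D.rank → ZMod r} (hβ : β ≠ 0) (h : β ᵥ* (wm E u).map (Int.castRingHom (ZMod r)) = (q : ZMod r) • β) :
    ∃ t ∈ D.diagonalSubgroup K, t ≠ 1 ∧ t ^ r = 1 ∧ ∀ s, ev t (u s) = ev t s ^ q := by
  have hr0 := hr.out.ne_zero
  have hz0 : z ≠ 0 := hz.ne_zero hr0
  set a : Fin D.rank → ℤ := fun i => ((β i).val : ℤ) with ha_def
  have haβ : (fun i => ((a i : ℤ) : ZMod r)) = β := by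
    funext i
    simp only [ha_def]
    push_cast
    exact ZMod.natCast_zmod_val _
  set χ : ℕ → Kˣ := fun j => if h : j < D.rank then (Units.mk0 z hz0) ^ (a ⟨j, h⟩) else 1 with hχ
  set t := ChevU.torHom D K χ with ht_def
  have ht : t ∈ D.diagonalSubgroup K := hTK χ
  have ha : ∀ i, ev t (E.rp.wsys.p i) = z ^ a i := by
    intro i
    rw [ht_def, ev_torHom, p_val]
    have h3 : chr D χ (D.simple i) = χ i := by
      unfold chr
      rw [Finset.prod_eq_single (i : ℕ)]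
      · rw [(good_of_mem hD).vec_simple i i.2 i i.2, if_pos rfl, _root_.zpow_one]
      · intro k hk hkj
        rw [(good_of_mem hD).vec_simple i i.2 k (Finset.mem_range.mp hk), if_neg (Ne.symm hkj), _root_.zpow_zero]
      · intro h; exact absurd (Finset.mem_range.mpr i.2) h
    rw [h3, hχ]
    simp only [i.2, dif_pos]
    rw [Units.val_zpow_eq_zpow_val, Units.val_mk0]
  refine ⟨t, ht, ?_, ?_, ?_⟩
  · intro h1
    obtain ⟨i, hi⟩ := Function.ne_iff.1 hβ
    have h2 := ha i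
    rw [h1, ev_one] at h2
    have h3 : z ^ (a i) = z ^ (0 : ℤ) := by rw [zpow_zero]; exact h2.symm
    rw [zpow_eq_iff hz hr0] at h3
    have h4 : ((a i : ℤ) : ZMod r) = β i := congrFun haβ i
    rw [h3] at h4
    apply hi
    rw [← h4]; simp
  · apply ev_ext E hD (pow_mem ht r) (one_mem _)
    intro i
    rw [ev_pow hD ht, ev_one, ha, ← zpow_natCast (z ^ a i) r, ← _root_.zpow_mul, mul_comm, _root_.zpow_mul, zpow_natCast z r, hz.pow_eq_one,
      _root_.one_zpow]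
  · refine fun s => ev_W E hD ht hu (fun j => ?_) s
    rw [ev_log E hD z hz0 ht ha, ha, ← zpow_natCast, ← _root_.zpow_mul, zpow_eq_iff hz hr0]
    have h2 : (((a ⬝ᵥ rv D (u (E.rp.wsys.p j)) : ℤ)) : ZMod r) =
        ((fun i => ((a i : ℤ) : ZMod r)) ᵥ* (wm E u).map (Int.castRingHom (ZMod r))) j := by
      simp only [dotProduct, vecMul, rv, wm, Matrix.map_apply]
      push_cast
      rfl
    rw [h2, haβ, h, Pi.smul_apply, smul_eq_mul]
    have h4 : β j = ((a j : ℤ) : ZMod r) := (congrFun haβ j).symm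
    rw [h4]
    push_cast
    ring

theorem log_data (hD : D ∈ data) {r : ℕ} [hr : Fact r.Prime] (hr1 : r ∣ Fintype.card K - 1)
    {t : GL D.Idx K} (ht : t ∈ D.diagonalSubgroup K) (ht1 : t ≠ 1) (htr : t ^ r = 1) {u : Equiv.Perm (Fin D.nroots)} {q : ℕ}
    (h : ∀ s, ev t (u s) = ev t s ^ q) : ∃ z : K, IsPrimitiveRoot z r ∧ ∃ a : Fin D.rank → ℤ,
      (∀ i, ev t (E.rp.wsys.p i) = z ^ a i) ∧ (fun i => ((a i : ℤ) : ZMod r)) ≠ 0 ∧
      (fun i => ((a i : ℤ) : ZMod r)) ᵥ* (wm E u).map (Int.castRingHom (ZMod r)) = (q : ZMod r) • (fun i => ((a i : ℤ) : ZMod r)) := by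
  obtain ⟨z, hz, a, ha⟩ := exists_log E hD hr1 ht htr
  exact ⟨z, hz, a, ha, log_ne_zero E hD hr.out.ne_zero hz ht ht1 ha, log_eigen E hD hr.out.ne_zero hz ht ha h⟩

end

end Cfsg.Agent.ChevPG
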