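import Cfsg.Agent.ChevF.TorMain
import Cfsg.Agent.ChevF.Fix

set_option autoImplicit false

/-!
# Frames for subgroups containing the diagonal subgroup (helper19)
-/

namespace Cfsg.Agent.ChevPG

open Cfsg.Lie Cfsg.Agent.Chev Cfsg.Agent.ChevGrp Cfsg.Agent.ChevF Matrix

variable {D : ChevalleyDatum} (E : DData D)

section

variable {K : Type*} [Field K] [Fintype K]

theorem not_dvd_index_in (hD : D ∈ data) {r : ℕ} [hr : Fact r.Prime] (hr1 : r ∣ Fintype.card K - 1)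
    (hW : ¬ r ∣ Nat.card E.rp.wsys.W) {H : Subgroup (GL D.Idx K)} (h1 : D.diagonalSubgroup K ≤ H) (h2 : H ≤ D.group K) :
    ¬ r ∣ ((D.diagonalSubgroup K).subgroupOf H).index := by
  intro h
  apply not_dvd_index_diag E hD hr1 hW
  have h3 : (D.diagonalSubgroup K).relIndex H * H.relIndex (D.group K) = (D.diagonalSubgroup K).relIndex (D.group K) :=
    Subgroup.relIndex_mul_relIndex _ _ _ h1 h2
  have h4 : ((D.diagonalSubgroup K).subgroupOf (D.group K)).index = (D.diagonalSubgroup K).relIndex (D.group K) := rfl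
  have h5 : ((D.diagonalSubgroup K).subgroupOf H).index = (D.diagonalSubgroup K).relIndex H := rfl
  rw [h4, ← h3, ← h5]
  exact h.mul_right _

/-- every `r`-subgroup of a subgroup containing the diagonal subgroup is conjugate into the diagonal subgroup -/
theorem exists_conj_in (hD : D ∈ data) {r : ℕ} [hr : Fact r.Prime] (hr1 : r ∣ Fintype.card K - 1)
    (hW : ¬ r ∣ Nat.card E.rp.wsys.W) {H : Subgroup (GL D.Idx K)} (h1 : D.diagonalSubgroup K ≤ H) (h2 : H ≤ D.group K)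
    {y : GL D.Idx K} (hy : y ∈ H) (hyr : y ^ r = 1) : ∃ g ∈ H, g⁻¹ * y * g ∈ D.diagonalSubgroup K := by
  haveI : Finite (GL D.Idx K) := inferInstance
  set B' := (D.diagonalSubgroup K).subgroupOf H with hB'
  set V' : Subgroup ↥H := Subgroup.zpowers ⟨y, hy⟩ with hV'
  have hVp' : IsPGroup r ↥V' := by
    rintro ⟨x, hx⟩
    refine ⟨1, ?_⟩
    obtain ⟨k, hk⟩ := Subgroup.mem_zpowers_iff.1 hx
    apply Subtype.ext
    show x ^ r ^ 1 = 1
    have h3 : (⟨y, hy⟩ : ↥H) ^ r = 1 := Subtype.ext (by simpa using hyr)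
    rw [pow_one, ← hk, ← zpow_natCast, zpow_comm, zpow_natCast, h3, _root_.one_zpow]
  obtain ⟨x, hx⟩ := hVp'.nonempty_fixed_point_of_prime_not_dvd_card (α := ↥H ⧸ B') (not_dvd_index_in E hD hr1 hW h1 h2)
  induction x using QuotientGroup.induction_on with
  | H g =>
    refine ⟨g, g.2, ?_⟩
    have h3 := hx ⟨⟨y, hy⟩, Subgroup.mem_zpowers _⟩
    have h4 : ((⟨y, hy⟩ * g : ↥H) : ↥H ⧸ B') = (g : ↥H ⧸ B') := h3
    rw [eq_comm, QuotientGroup.eq, Subgroup.mem_subgroupOf] at h4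
    have : (g : GL D.Idx K)⁻¹ * y * (g : GL D.Idx K) = ((g⁻¹ * (⟨y, hy⟩ * g) : ↥H) : GL D.Idx K) := by
      simp [mul_assoc]
    rw [this]; exact h4

/-- a unipotent element centralized by a family without common kernel is trivial -/
theorem cent_U' (hD : D ∈ data) {x : GL D.Idx K} (hx : x ∈ D.posUnipotent K)
    (hreg : ∀ s, ∃ t ∈ D.diagonalSubgroup K, ev t s ≠ 1 ∧ x * t = t * x) : x = 1 := by
  set T := (ChevU.rootFacts hD).tab with hT
  have hn := T.n_eq
  rw [ChevU.posUnipotent_eq T, ← ChevU.V_half T (le_refl T.half)] at hx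
  have key : ∀ m k, T.half ≤ k → k + m = D.nroots → x ∈ ChevU.V T (F := K) k → x = 1 := by
    intro m
    induction m with
    | zero =>
      intro k _ hkm hg
      rwa [ChevU.V_top T (by omega), Subgroup.mem_bot] at hg
    | succ m ih =>
      intro k hk hkm hg
      obtain ⟨t, ht, hne, hc⟩ := hreg ⟨k, by omega⟩
      obtain ⟨a, v, hv, e⟩ := ChevU.exists_mul_of_mem_V T (ChevU.elemFacts hD K) hk (by omega) hg
      have h1 : t * x * t⁻¹ = x := by rw [← hc]; group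
      have h2 : ChevU.xu T (ChevU.elemFacts hD K) k (ev t ⟨k, by omega⟩ * a) * (t * v * t⁻¹) =
          ChevU.xu T (ChevU.elemFacts hD K) k a * v := by
        have h3 := diag_mul_xU hD ht ⟨k, by omega⟩ a
        have h4 : t * ChevU.xu T (ChevU.elemFacts hD K) k a * t⁻¹ = ChevU.xu T (ChevU.elemFacts hD K) k (ev t ⟨k, by omega⟩ * a) := h3
        rw [← h4, ← e]
        conv_rhs => rw [← h1, e]
        group
      obtain ⟨h5, -⟩ := ChevU.eq_of_mul_eq T (ChevU.elemFacts hD K) hk (by omega) (diag_conj_V hD ht (k + 1) v hv) hv h2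
      have h6 : (ev t ⟨k, by omega⟩ - 1) * a = 0 := by rw [sub_mul, h5, one_mul, sub_self]
      rcases mul_eq_zero.1 h6 with h7 | h7
      · exact absurd (sub_eq_zero.1 h7) hne
      · apply ih (k + 1) (by omega) (by omega)
        rw [e, h7, ChevU.xu_zero, one_mul]; exact hv
  exact key T.half T.half le_rfl (by omega) hx

end

section

variable {F K : Type*} [Field F] [Field K] [Fintype K]

theorem glMap_fix (ι : F →+* K) {σ : K →+* K} (hι : ∀ t, σ (ι t) = ι t) (y : GL D.Idx F) :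
    glMap D.Idx σ (glMap D.Idx ι y) = glMap D.Idx ι y := by
  apply Units.ext
  rw [glMap_coe, glMap_coe]
  ext i j
  simp [hι]

/-- frames -/
theorem frame (hD : D ∈ data) (ι : F →+* K) {σ : K →+* K} {q : ℕ} (hσ : ∀ t, σ t = t ^ q)
    (hι : ∀ t, σ (ι t) = ι t) {g : GL D.Idx K} (hg : g ∈ D.group K) :
    ∃ b ∈ D.posUnipotent K, ∃ n ∈ (chev E (good_of_mem hD) K).N, ∃ x ∈ D.posUnipotent K,
        g⁻¹ * glMap D.Idx σ g = b * n * x ∧ ∃ u ∈ E.rp.wsys.W, (chev E (good_of_mem hD) K).Act n u ∧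
      (∀ y : GL D.Idx F, g⁻¹ * glMap D.Idx ι y * g ∈ D.diagonalSubgroup K →
        (∀ s, ev (g⁻¹ * glMap D.Idx ι y * g) (u s) = ev (g⁻¹ * glMap D.Idx ι y * g) s ^ q) ∧
        x * (g⁻¹ * glMap D.Idx ι y * g) ^ q = (g⁻¹ * glMap D.Idx ι y * g) ^ q * x ∧
        b * (g⁻¹ * glMap D.Idx ι y * g) = (g⁻¹ * glMap D.Idx ι y * g) * b) ∧
      (∀ z ∈ D.diagonalSubgroup K, g⁻¹ * glMap D.Idx σ g * z = z * (g⁻¹ * glMap D.Idx σ g) →
        (∀ s, ev z (u s) = ev z s) ∧ x * z = z * x ∧ b * z = z * b) := by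
  have hc : g⁻¹ * glMap D.Idx σ g ∈ D.group K := mul_mem (inv_mem hg) (glMap_mem σ hg)
  obtain ⟨b, hb, n, hn, x, hx, e, h3⟩ := fusion E hD hc
  obtain ⟨u, hu⟩ := RGrp.exists_act hn
  refine ⟨b, hb, n, hn, x, hx, e, u, hu.mem, hu, fun y hy => ?_, fun z hz hcz => ?_⟩
  · set t := g⁻¹ * glMap D.Idx ι y * g with ht
    have ht1 : t ∈ D.diagonalSubgroup K := hy
    have h4 : (g⁻¹ * glMap D.Idx σ g) * t ^ q * (g⁻¹ * glMap D.Idx σ g)⁻¹ = t := by
      rw [← glMap_frob hD hσ ht1, ht]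
      simp only [map_mul, map_inv, glMap_fix ι hι]
      group
    obtain ⟨h5, h6, h7⟩ := h3 (t ^ q) (pow_mem ht1 q) (by rw [h4]; exact ht1)
    rw [h4] at h5
    rw [h5] at h7
    refine ⟨fun s => ?_, h6, h7⟩
    have h8 := N_conj_ev E hD hn hu (pow_mem ht1 q) s
    rw [h5, ev_pow hD ht1] at h8
    exact h8
  · have h4 : (g⁻¹ * glMap D.Idx σ g) * z * (g⁻¹ * glMap D.Idx σ g)⁻¹ = z := by rw [hcz]; group
    obtain ⟨h5, h6, h7⟩ := h3 z hz (by rw [h4]; exact hz)
    rw [h4] at h5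
    rw [h5] at h7
    refine ⟨fun s => ?_, h6, h7⟩
    have h8 := N_conj_ev E hD hn hu hz s
    rw [h5] at h8
    exact h8

end

end Cfsg.Agent.ChevPG
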