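import Cfsg.Agent.ChevGrp.Orders
import Cfsg.Agent.ChevU.Over

set_option autoImplicit false

/-!
# Orders of parabolic subgroups (helper19)
-/

namespace Cfsg.Agent.ChevPG

open Cfsg.Agent.ChevWeyl Cfsg.Agent.ChevGrp Cfsg.Lie Cfsg.Agent.Chev

section

variable {l n : ℕ} {S : WSys l n} {G : Type*} [Group G] {R : RGrp S G}

variable (R) in
/-- parabolic subgroups -/
def PJ (J : Finset (Fin l)) : Subgroup G := R.B ⊔ Subgroup.closure (R.nn '' (J : Set (Fin l)))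

theorem par_form {J : Finset (Fin l)} {g : G} (hg : g ∈ PJ R J) :
    ∃ b ∈ R.B, ∃ L : List (Fin l), (∀ i ∈ L, i ∈ J) ∧ ∃ b' ∈ R.B, g = b * R.nd L * b' := by
  have hcl : g ∈ Subgroup.closure ((R.B : Set G) ∪ R.nn '' (J : Set (Fin l))) := by
    rw [Subgroup.closure_union, Subgroup.closure_eq]; exact hg
  have step : ∀ j ∈ J, ∀ y, (∃ b ∈ R.B, ∃ L : List (Fin l), (∀ i ∈ L, i ∈ J) ∧ ∃ b' ∈ R.B, y = b * R.nd L * b') →
      ∃ b ∈ R.B, ∃ L : List (Fin l), (∀ i ∈ L, i ∈ J) ∧ ∃ b' ∈ R.B, R.nn j * y = b * R.nd L * b' := by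
    rintro j hj y ⟨b, hb, L, hL, b', hb', rfl⟩
    rcases RGrp.bn j (RGrp.nd_mem_N (R := R) L) hb with ⟨b₁, h1, b₂, h2, e⟩ | ⟨b₁, h1, b₂, h2, e⟩
    · refine ⟨b₁, h1, j :: L, ?_, b₂ * b', mul_mem h2 hb', ?_⟩
      · intro i hi
        rcases List.mem_cons.1 hi with rfl | hi
        · exact hj
        · exact hL i hi
      · rw [RGrp.nd_cons]
        calc R.nn j * (b * R.nd L * b') = (R.nn j * b * R.nd L) * b' := by group
          _ = _ := by rw [e]; group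
    · refine ⟨b₁, h1, L, hL, b₂ * b', mul_mem h2 hb', ?_⟩
      calc R.nn j * (b * R.nd L * b') = (R.nn j * b * R.nd L) * b' := by group
        _ = _ := by rw [e]; group
  induction hcl using Subgroup.closure_induction_left with
  | one => exact ⟨1, one_mem _, [], by simp, 1, one_mem _, by rw [RGrp.nd_nil]; group⟩
  | mul_left x hx y hy ih =>
    have hy' : y ∈ PJ R J := by
      rw [Subgroup.closure_union, Subgroup.closure_eq] at hy; exact hy
    rcases hx with hx | ⟨j, hj, rfl⟩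
    · obtain ⟨b, hb, L, hL, b', hb', rfl⟩ := ih hy'
      exact ⟨x * b, mul_mem hx hb, L, hL, b', hb', by group⟩
    · exact step j hj y (ih hy')
  | inv_mul_cancel x hx y hy ih =>
    have hy' : y ∈ PJ R J := by
      rw [Subgroup.closure_union, Subgroup.closure_eq] at hy; exact hy
    rcases hx with hx | ⟨j, hj, rfl⟩
    · obtain ⟨b, hb, L, hL, b', hb', rfl⟩ := ih hy'
      exact ⟨x⁻¹ * b, mul_mem (inv_mem hx) hb, L, hL, b', hb', by group⟩
    · obtain ⟨b, hb, L, hL, b', hb', e⟩ := step j hj y (ih hy')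
      have h2 := R.H_le_B (R.nn_sq j)
      refine ⟨(R.nn j * R.nn j)⁻¹ * b, mul_mem (inv_mem h2) hb, L, hL, b', hb', ?_⟩
      have e3 : (R.nn j)⁻¹ * y = (R.nn j * R.nn j)⁻¹ * (R.nn j * y) := by group
      rw [e3, e]; group

variable (S) in
/-- parabolic subgroups of the Weyl group -/
def WP (J : Finset (Fin l)) : Subgroup (Equiv.Perm (Fin n)) := Subgroup.closure (S.w '' (J : Set (Fin l)))

theorem WP_le (J : Finset (Fin l)) : WP S J ≤ S.W := Subgroup.closure_mono (Set.image_subset_range _ _)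

theorem wd_mem_WP {J : Finset (Fin l)} {L : List (Fin l)} (h : ∀ i ∈ L, i ∈ J) : S.wd L ∈ WP S J := by
  induction L with
  | nil => rw [WSys.wd_nil]; exact one_mem _
  | cons i L ih =>
    rw [WSys.wd_cons]
    exact mul_mem (Subgroup.subset_closure ⟨i, h i (by simp), rfl⟩) (ih fun j hj => h j (by simp [hj]))

theorem exists_rep {J : Finset (Fin l)} {u : Equiv.Perm (Fin n)} (hu : u ∈ WP S J) :
    ∃ g ∈ R.N, g ∈ PJ R J ∧ R.Act g u := by
  unfold WP at hu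
  induction hu using Subgroup.closure_induction with
  | mem x hx =>
    obtain ⟨i, hi, rfl⟩ := hx
    exact ⟨R.nn i, R.nn_mem_N i, Subgroup.mem_sup_right (Subgroup.subset_closure ⟨i, hi, rfl⟩), RGrp.act_nn i⟩
  | one => exact ⟨1, one_mem _, one_mem _, RGrp.act_one⟩
  | mul x y _ _ ihx ihy =>
    obtain ⟨g, h1, h2, h3⟩ := ihx
    obtain ⟨g', h1', h2', h3'⟩ := ihy
    exact ⟨g * g', mul_mem h1 h1', mul_mem h2 h2', h3.mul h3'⟩
  | inv x _ ih =>
    obtain ⟨g, h1, h2, h3⟩ := ih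
    exact ⟨g⁻¹, inv_mem h1, inv_mem h2, h3.inv⟩

theorem card_PJ [Finite G] (J : Finset (Fin l)) :
    Nat.card (PJ R J) = Nat.card R.B * ∑ᶠ u : WP S J, Nat.card (R.Um (u : Equiv.Perm (Fin n))) := by
  classical
  haveI : Fintype (WP S J) := Fintype.ofFinite _
  rw [finsum_eq_sum_of_fintype, ← Nat.card_sigma, ← Nat.card_prod]
  have hB : R.B ≤ PJ R J := le_sup_left
  have hrep : ∀ u : WP S J, ∃ g ∈ R.N, g ∈ PJ R J ∧ R.Act g (u : Equiv.Perm (Fin n)) := fun u => exists_rep u.2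
  choose rep hrepN hrepP hrep using hrep
  refine (Nat.card_congr (Equiv.ofBijective (fun p : R.B × (Σ u : WP S J, R.Um (u : Equiv.Perm (Fin n))) =>
    (⟨(p.1 : G) * rep p.2.1 * p.2.2, mul_mem (mul_mem (hB p.1.2) (hrepP _))
      (hB (R.U_le_B (RGrp.Um_le_U _ p.2.2.2)))⟩ : PJ R J)) ⟨?_, ?_⟩)).symm
  · rintro ⟨⟨b, hb⟩, ⟨u, ⟨x, hx⟩⟩⟩ ⟨⟨b', hb'⟩, ⟨u', ⟨x', hx'⟩⟩⟩ e
    simp only [Subtype.mk.injEq] at e
    have huu : u = u' := by
      apply Subtype.ext
      have hxx : x * x'⁻¹ ∈ R.B := mul_mem (R.U_le_B (RGrp.Um_le_U _ hx)) (inv_mem (R.U_le_B (RGrp.Um_le_U _ hx')))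
      refine RGrp.act_eq_of_bnb (hrep u) (hrepN u) (hrep u') (hrepN u') (b := b'⁻¹ * b) (b' := x * x'⁻¹)
        (mul_mem (inv_mem hb') hb) hxx ?_
      have : b'⁻¹ * (b * rep u * x) * x'⁻¹ = rep u' := by rw [e]; group
      rw [← this]; group
    subst huu
    obtain ⟨h1, h2⟩ := RGrp.bnu_unique (hrep u) hb hb' hx hx' e
    subst h1; subst h2; rfl
  · rintro ⟨g, hg⟩
    obtain ⟨b, hb, L, hL, b', hb', rfl⟩ := par_form hg
    have hu : S.wd L ∈ WP S J := wd_mem_WP hL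
    have h1 := RGrp.inv_mul_mem_H (hrepN ⟨_, hu⟩) (RGrp.nd_mem_N (R := R) L) (hrep ⟨_, hu⟩) (RGrp.act_nd L)
    obtain ⟨b'', hb'', x, hx, e⟩ := RGrp.exists_bnu (hrep ⟨_, hu⟩) (hrepN ⟨_, hu⟩)
      (b := (rep ⟨_, hu⟩)⁻¹ * R.nd L * b') (mul_mem (R.H_le_B h1) hb')
    refine ⟨(⟨b * b'', mul_mem hb hb''⟩, ⟨⟨_, hu⟩, ⟨x, hx⟩⟩), ?_⟩
    apply Subtype.ext
    change b * b'' * rep ⟨_, hu⟩ * x = b * R.nd L * b'
    have : b * b'' * rep ⟨_, hu⟩ * x = b * (b'' * rep ⟨_, hu⟩ * x) := by group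
    rw [this, ← e]; group

end

section

variable {D : ChevalleyDatum} (E : DData D) (H : Chev.Good D) {F : Type*} [Field F]

theorem PJ_chev (J : Finset (Fin D.rank)) :
    PJ (chev E H F) J = D.parabolicSubgroup F {i | ∃ h : i < D.rank, (⟨i, h⟩ : Fin D.rank) ∈ J} := by
  unfold PJ ChevalleyDatum.parabolicSubgroup
  rw [chev_B]
  congr 1
  congr 1
  ext g
  constructor
  · rintro ⟨j, hj, rfl⟩
    refine ⟨j, ⟨j.2, hj⟩, j.2, ?_⟩
    rw [chev_nn]; rfl
  · rintro ⟨j, ⟨hj, hjJ⟩, hjr, h⟩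
    refine ⟨⟨j, hj⟩, hjJ, ?_⟩
    rw [chev_nn]
    apply Units.ext
    exact h.symm

include H in
theorem card_par [Fintype F] (J : Finset (Fin D.rank)) {q : ℕ} (hq : Fintype.card F = q) :
    Nat.card (D.parabolicSubgroup F {i | ∃ h : i < D.rank, (⟨i, h⟩ : Fin D.rank) ∈ J}) =
      Nat.card (D.borelSubgroup F) * E.rp.PoinJ J q := by
  classical
  rw [← PJ_chev E H]
  haveI : Finite (GL D.Idx F) := inferInstance
  rw [card_PJ, chev_B]
  congr 1
  have : Fintype (WP E.rp.wsys J) := Fintype.ofFinite _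
  rw [finsum_eq_sum_of_fintype, RootPerm.PoinJ]
  have h2 : ∀ u : WP E.rp.wsys J, Nat.card ((chev E H F).Um (u : Equiv.Perm (Fin D.nroots))) = q ^ E.rp.N u := by
    intro u
    refine (chev E H F).card_Um (fun j => ?_) (WP_le J u.2)
    rw [chev_X, card_rootSubgroup H (E.rp.wsys.p j).2, Nat.card_eq_fintype_card, hq]
  rw [Finset.sum_congr rfl (fun u _ => h2 u)]
  refine Finset.sum_bij (fun u _ => (u : Equiv.Perm (Fin D.nroots))) ?_ ?_ ?_ ?_
  · intro u _
    rw [Set.Finite.mem_toFinset, SetLike.mem_coe]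
    exact u.2
  · intro u _ v _ h; exact Subtype.ext h
  · intro u hu
    rw [Set.Finite.mem_toFinset, SetLike.mem_coe] at hu
    exact ⟨⟨u, hu⟩, Finset.mem_univ _, rfl⟩
  · intro u _; rfl

/-- an element of prime order in a Levi subgroup -/
theorem exists_levi (hD : D ∈ data) [Fintype F] (J : Finset (Fin D.rank)) {q s : ℕ} (hq : Fintype.card F = q) (hs : s.Prime)
    (hsq : Nat.Coprime s q) (h : s ∣ E.rp.PoinJ J q) :
    ∃ y ∈ D.leviSubgroup F {i | ∃ h : i < D.rank, (⟨i, h⟩ : Fin D.rank) ∈ J}, y ≠ 1 ∧ y ^ s = 1 := by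
  have G := good_of_mem hD
  set J' : Set ℕ := {i | ∃ h : i < D.rank, (⟨i, h⟩ : Fin D.rank) ∈ J} with hJ'
  haveI : Finite (GL D.Idx F) := inferInstance
  haveI : Fact s.Prime := ⟨hs⟩
  obtain ⟨z, hz⟩ := exists_prime_orderOf_dvd_card' (G := ↥(D.parabolicSubgroup F J')) s (by
    rw [hJ', card_par E G J hq]; exact h.mul_left _)
  have R := ChevU.rootFacts hD
  obtain ⟨u, hu, x, hx, e⟩ := ChevU.exists_ul R G J' z.2
  have hN := ChevU.levi_le_normalizer (F := F) R J' G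
  have hpow : ∀ k : ℕ, ∃ v ∈ D.unipotentRadical F J', (u * x) ^ k = v * x ^ k := by
    intro k
    induction k with
    | zero => exact ⟨1, one_mem _, by simp⟩
    | succ k ih =>
      obtain ⟨v, hv, e1⟩ := ih
      have h1 := (Subgroup.mem_normalizer_iff.1 (hN (pow_mem hx k)) u).1 hu
      refine ⟨v * (x ^ k * u * (x ^ k)⁻¹), mul_mem hv h1, ?_⟩
      rw [pow_succ, e1, pow_succ]; group
  have hzs : (u * x) ^ s = 1 := by
    rw [← e]
    have := pow_orderOf_eq_one z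
    rw [hz] at this
    exact congrArg Subtype.val this
  obtain ⟨v, hv, e2⟩ := hpow s
  rw [hzs] at e2
  have hinf := (ChevU.levi_decomposition (F := F) R G J').2.2
  have hxs : x ^ s = 1 := by
    have h1 : x ^ s ∈ D.unipotentRadical F J' ⊓ D.leviSubgroup F J' := by
      refine ⟨?_, pow_mem hx s⟩
      show x ^ s ∈ D.unipotentRadical F J'
      have : x ^ s = v⁻¹ := by rw [eq_comm, inv_eq_iff_mul_eq_one]; exact e2.symm
      rw [this]; exact inv_mem hv
    rw [hinf, Subgroup.mem_bot] at h1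
    exact h1
  refine ⟨x, hx, ?_, hxs⟩
  intro hx1
  rw [hx1, mul_one] at e hzs
  have hup : u ∈ D.posUnipotent F := by
    have : D.unipotentRadical F J' ≤ D.posUnipotent F := by
      unfold ChevalleyDatum.unipotentRadical ChevalleyDatum.posUnipotent
      apply Subgroup.closure_mono
      rintro g ⟨r, t, h1, -, h2⟩
      exact ⟨r, t, h1, h2⟩
    exact this hu
  have hc := ChevU.card_posUnipotent R.tab (ChevU.elemFacts hD F)
  have h3 : u ^ (q ^ (D.nroots / 2)) = 1 := by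
    have h4 := pow_card_eq_one' (x := (⟨u, hup⟩ : D.posUnipotent F))
    rw [hc, hq] at h4
    exact congrArg Subtype.val h4
  have h4 : orderOf u ∣ Nat.gcd s (q ^ (D.nroots / 2)) := Nat.dvd_gcd (orderOf_dvd_of_pow_eq_one hzs) (orderOf_dvd_of_pow_eq_one h3)
  rw [Nat.Coprime.gcd_eq_one (Nat.Coprime.pow_right _ hsq), Nat.dvd_one, orderOf_eq_one_iff] at h4
  have h5 : z = 1 := Subtype.ext (by rw [e, h4]; rfl)
  rw [h5, orderOf_one] at hz
  exact hs.one_lt.ne hz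

end

end Cfsg.Agent.ChevPG
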