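import Cfsg.Agent.ChevPG.Eig

set_option autoImplicit false

/-!
# Elements commuting with a regular element of prime order (helper19)
-/

namespace Cfsg.Agent.ChevPG

open Cfsg.Lie Cfsg.Agent.Chev Cfsg.Agent.ChevGrp Cfsg.Agent.ChevF Matrix Polynomial

variable {D : ChevalleyDatum} (E : DData D) {F K : Type*} [Field F] [Field K] [Fintype K]

theorem wm_pow_card (hD : D ∈ data) {u : Equiv.Perm (Fin D.nroots)} (hu : u ∈ E.rp.wsys.W) : wm E u ^ Nat.card E.rp.wsys.W = 1 := by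
  have G := good_of_mem hD
  have huN : u ^ Nat.card E.rp.wsys.W = 1 := by
    have := pow_card_eq_one' (x := (⟨u, hu⟩ : E.rp.wsys.W))
    exact congrArg Subtype.val this
  rw [← wm_pow E G hu, huN, wm_one E G]

theorem conj_pow_eq {g y : GL D.Idx K} {m : ℕ} (hy : y ^ m = 1) : (g⁻¹ * y * g) ^ m = 1 := by
  have := conj_pow (i := m) (a := g⁻¹) (b := y)
  rw [inv_inv] at this
  rw [this, hy]; group

theorem conj_ne_one {g y : GL D.Idx K} (hy : y ≠ 1) : g⁻¹ * y * g ≠ 1 := by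
  intro h
  apply hy
  have : y = g * (g⁻¹ * y * g) * g⁻¹ := by group
  rw [this, h]; group

include E in
theorem diag_le_grp (hD : D ∈ data) : D.diagonalSubgroup K ≤ D.group K := H_le_group E (good_of_mem hD)

/-- the element of order `r` in the torus determined by a regular element of order `ℓ` -/
theorem reg_frame (hD : D ∈ data) (ι : F →+* K) (σ : K →+* K) {q d ℓ r : ℕ} [hℓ : Fact ℓ.Prime] [hr : Fact r.Prime]
    (hσ : ∀ t, σ t = t ^ q) (hι : ∀ t, σ (ι t) = ι t)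
    (hord : orderOf (q : ZMod ℓ) = d) (hdeg : d.totient = D.rank) (hd0 : 0 < d)
    (hW : ¬ ℓ ∣ Nat.card E.rp.wsys.W) (hℓ1 : ℓ ∣ Fintype.card K - 1) {z : ↥(D.group F)} (hz : orderOf z = ℓ * r) :
    ∃ t' ∈ D.diagonalSubgroup K, t' ≠ 1 ∧ t' ^ r = 1 ∧ ∃ u ∈ E.rp.wsys.W,
      aeval ((wm E u).map (Int.castRingHom ℚ)) (cyclotomic d ℚ) = 0 ∧ ∀ s, ev t' (u s) = ev t' s ^ q := by
  have G := good_of_mem hD
  have hℓ0 := hℓ.out.pos
  have hr0 := hr.out.pos
  set y : GL D.Idx F := ((z ^ r : ↥(D.group F)) : GL D.Idx F) with hy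
  set x : GL D.Idx F := ((z ^ ℓ : ↥(D.group F)) : GL D.Idx F) with hx
  have hyℓ : y ^ ℓ = 1 := by
    rw [hy, ← Subgroup.coe_pow, ← pow_mul, mul_comm, ← hz, pow_orderOf_eq_one]; rfl
  have hxr : x ^ r = 1 := by
    rw [hx, ← Subgroup.coe_pow, ← pow_mul, ← hz, pow_orderOf_eq_one]; rfl
  have hy1 : y ≠ 1 := by
    intro h
    have h1 : z ^ r = 1 := Subtype.ext h
    have h2 := Nat.le_of_dvd hr0 (orderOf_dvd_of_pow_eq_one h1)
    rw [hz] at h2
    nlinarith [hℓ.out.two_le]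
  have hx1 : x ≠ 1 := by
    intro h
    have h1 : z ^ ℓ = 1 := Subtype.ext h
    have h2 := Nat.le_of_dvd hℓ0 (orderOf_dvd_of_pow_eq_one h1)
    rw [hz] at h2
    nlinarith [hr.out.two_le]
  have hxy : x * y = y * x := by
    rw [hx, hy, ← Subgroup.coe_mul, ← Subgroup.coe_mul, ← pow_add, ← pow_add, add_comm]
  have hyι : glMap D.Idx ι y ^ ℓ = 1 := by rw [← map_pow, hyℓ, map_one]
  obtain ⟨g, hg, ht⟩ := exists_conj_in E hD hℓ1 hW (diag_le_grp (K := K) E hD) le_rfl (glMap_mem ι (z ^ r).2) hyι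
  set t : GL D.Idx K := g⁻¹ * glMap D.Idx ι y * g with ht_def
  have ht : t ∈ D.diagonalSubgroup K := ht
  have htℓ : t ^ ℓ = 1 := conj_pow_eq hyι
  have ht1 : t ≠ 1 := conj_ne_one (fun h => hy1 (glMap_injective ι (by rw [h, map_one])))
  obtain ⟨b, hb, n, hn, w, hw, hbnw, u, hu, hact, h2, -⟩ := frame E hD ι hσ hι hg
  obtain ⟨h3, h4, h5⟩ := h2 y ht
  rw [← ht_def] at h3 h4 h5
  obtain ⟨ζ, hζ, a, ha, ha0, haM⟩ := log_data E hD hℓ1 ht ht1 htℓ h3
  have hMW := wm_pow_card E hD hu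
  set M := wm E u with hM
  obtain ⟨v, hv0, hv⟩ := exists_vec (M := M) Nat.card_pos hMW hW ha0 haM
  rw [hord] at hv
  set Mq := M.map (Int.castRingHom ℚ) with hMq
  have hirr : Irreducible (cyclotomic d ℚ) := cyclotomic.irreducible_rat hd0
  have hdegq : (cyclotomic d ℚ).natDegree = D.rank := by rw [natDegree_cyclotomic, hdeg]
  have haev : ∀ p : ℤ[X], (aeval M p).map (Int.castRingHom ℚ) = aeval Mq (p.map (Int.castRingHom ℚ)) := fun p =>
    Polynomial.map_aeval_eq_aeval_map (R := ℤ) (S := Matrix (Fin D.rank) (Fin D.rank) ℤ) (T := ℚ)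
        (U := Matrix (Fin D.rank) (Fin D.rank) ℚ) (φ := Int.castRingHom ℚ)
        (ψ := RingHom.mapMatrix (m := Fin D.rank) (Int.castRingHom ℚ)) (by ext; simp) p M
  have hvq : (aeval Mq (cyclotomic d ℚ)) *ᵥ (fun i => ((v i : ℤ) : ℚ)) = 0 := by
    rw [← map_cyclotomic d (Int.castRingHom ℚ), ← haev]
    funext i
    have h6 := congrFun hv i
    simp only [mulVec, dotProduct, Pi.zero_apply] at h6 ⊢
    have h7 := congrArg (Int.cast : ℤ → ℚ) h6
    push_cast at h7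
    exact h7
  have hvq0 : (fun i => ((v i : ℤ) : ℚ)) ≠ 0 := by
    intro h0
    apply hv0
    funext i
    have := congrFun h0 i
    simpa using this
  have hPM := aeval_eq_zero_of_irreducible hirr hdegq hvq0 hvq
  have hqinj : ∀ x y : K, x ^ q = y ^ q → x = y := by
    intro x y hxy
    rw [← hσ, ← hσ] at hxy
    exact σ.injective hxy
  have hst : ∀ v ∈ E.rp.wsys.W, (∀ s, ev t (v s) = ev t s) → v = 1 := fun v hv hvt =>
    stab_trivial E hD hζ ht ht1 ha hu hqinj h3 hW hirr hdegq hPM hv hvt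
  have hx' : g⁻¹ * glMap D.Idx ι x * g ∈ D.diagonalSubgroup K := by
    refine cent_eq E hD ht hst (mul_mem (mul_mem (inv_mem hg) (glMap_mem ι (z ^ ℓ).2)) hg) ?_
    rw [ht_def]
    have h6 : glMap D.Idx ι x * glMap D.Idx ι y = glMap D.Idx ι y * glMap D.Idx ι x := by rw [← map_mul, hxy, map_mul]
    calc g⁻¹ * glMap D.Idx ι x * g * (g⁻¹ * glMap D.Idx ι y * g) = g⁻¹ * (glMap D.Idx ι x * glMap D.Idx ι y) * g := by group
      _ = g⁻¹ * (glMap D.Idx ι y * glMap D.Idx ι x) * g := by rw [h6]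
      _ = _ := by group
  have hxι : glMap D.Idx ι x ^ r = 1 := by rw [← map_pow, hxr, map_one]
  exact ⟨_, hx', conj_ne_one (fun h => hx1 (glMap_injective ι (by rw [h, map_one]))), conj_pow_eq hxι, u, hu, hPM, (h2 x hx').1⟩

end Cfsg.Agent.ChevPG
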