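import Mathlib.Data.ZMod.Basic
import Mathlib.Tactic

set_option autoImplicit false
set_option maxRecDepth 100000

/-!
# The Weyl group of type F4 as a list of integer matrices (helper19)
-/

namespace Cfsg.Agent.ChevPG

/-- integer vectors of length four -/
structure Q4 where
  a : ℤ
  b : ℤ
  c : ℤ
  d : ℤ

/-- integer matrices given by rows -/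
structure M4 where
  r0 : Q4
  r1 : Q4
  r2 : Q4
  r3 : Q4

def qeq (x y : Q4) : Bool := decide (x.a = y.a) && (decide (x.b = y.b) && (decide (x.c = y.c) && decide (x.d = y.d)))

theorem qeq_sound {x y : Q4} (h : qeq x y = true) : x = y := by
  obtain ⟨a, b, c, d⟩ := x
  obtain ⟨a', b', c', d'⟩ := y
  simp only [qeq, Bool.and_eq_true, decide_eq_true_eq] at h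
  obtain ⟨rfl, rfl, rfl, rfl⟩ := h
  rfl

def meq (x y : M4) : Bool := qeq x.r0 y.r0 && (qeq x.r1 y.r1 && (qeq x.r2 y.r2 && qeq x.r3 y.r3))

theorem meq_sound {x y : M4} (h : meq x y = true) : x = y := by
  obtain ⟨a, b, c, d⟩ := x
  obtain ⟨a', b', c', d'⟩ := y
  simp only [meq, Bool.and_eq_true] at h
  obtain ⟨h1, h2, h3, h4⟩ := h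
  have h1 := qeq_sound h1
  have h2 := qeq_sound h2
  have h3 := qeq_sound h3
  have h4 := qeq_sound h4
  subst h1; subst h2; subst h3; subst h4
  rfl

/-- linear combination -/
def lc (p q r s : ℤ) (x y z w : ℤ) : ℤ := Int.add (Int.add (Int.mul p x) (Int.mul q y)) (Int.add (Int.mul r z) (Int.mul s w))

/-- row vector times matrix -/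
def vm (x : Q4) (M : M4) : Q4 :=
  match x, M with
  | ⟨p, q, r, s⟩, ⟨⟨a0, b0, c0, d0⟩, ⟨a1, b1, c1, d1⟩, ⟨a2, b2, c2, d2⟩, ⟨a3, b3, c3, d3⟩⟩ =>
    ⟨lc p q r s a0 a1 a2 a3, lc p q r s b0 b1 b2 b3, lc p q r s c0 c1 c2 c3, lc p q r s d0 d1 d2 d3⟩

def mm (A B : M4) : M4 := ⟨vm A.r0 B, vm A.r1 B, vm A.r2 B, vm A.r3 B⟩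

def qa (x y : Q4) : Q4 := ⟨Int.add x.a y.a, Int.add x.b y.b, Int.add x.c y.c, Int.add x.d y.d⟩
def qn (x : Q4) : Q4 := ⟨Int.neg x.a, Int.neg x.b, Int.neg x.c, Int.neg x.d⟩
def ma (A B : M4) : M4 := ⟨qa A.r0 B.r0, qa A.r1 B.r1, qa A.r2 B.r2, qa A.r3 B.r3⟩
def mn (A : M4) : M4 := ⟨qn A.r0, qn A.r1, qn A.r2, qn A.r3⟩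

/-- two by two minors -/
def d2 (a b c d : ℤ) : ℤ := Int.sub (Int.mul a d) (Int.mul b c)

def det4 (x y z w : Q4) : ℤ :=
  Int.add (Int.add (Int.sub (Int.mul (d2 x.a x.b y.a y.b) (d2 z.c z.d w.c w.d)) (Int.mul (d2 x.a x.c y.a y.c) (d2 z.b z.d w.b w.d)))
    (Int.add (Int.mul (d2 x.a x.d y.a y.d) (d2 z.b z.c w.b w.c)) (Int.mul (d2 x.b x.c y.b y.c) (d2 z.a z.d w.a w.d))))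
    (Int.sub (Int.mul (d2 x.c x.d y.c y.d) (d2 z.a z.b w.a w.b)) (Int.mul (d2 x.b x.d y.b y.d) (d2 z.a z.c w.a w.c)))

def mdet (M : M4) : ℤ := det4 M.r0 M.r1 M.r2 M.r3

def i4 : M4 := ⟨⟨1, 0, 0, 0⟩, ⟨0, 1, 0, 0⟩, ⟨0, 0, 1, 0⟩, ⟨0, 0, 0, 1⟩⟩

/-- the cyclotomic polynomials of index 3, 4 and 6 -/
def ph3 (N : M4) : M4 := ma (ma (mm N N) N) i4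
def ph4 (N : M4) : M4 := ma (mm N N) i4
def ph6 (N : M4) : M4 := ma (ma (mm N N) (mn N)) i4

/-- divides a power of six -/
def sm (d : ℤ) : Bool := match d with
  | .ofNat n => Nat.blt 0 n && Nat.beq (Nat.mod (2 ^ 12 * 3 ^ 12) n) 0
  | .negSucc n => Nat.beq (Nat.mod (2 ^ 12 * 3 ^ 12) (Nat.succ n)) 0

/-- the simple reflections -/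
def S4 : List M4 := [
  ⟨⟨-1, 0, 0, 0⟩, ⟨1, 1, 0, 0⟩, ⟨0, 0, 1, 0⟩, ⟨0, 0, 0, 1⟩⟩,
  ⟨⟨1, 1, 0, 0⟩, ⟨0, -1, 0, 0⟩, ⟨0, 2, 1, 0⟩, ⟨0, 0, 0, 1⟩⟩,
  ⟨⟨1, 0, 0, 0⟩, ⟨0, 1, 1, 0⟩, ⟨0, 0, -1, 0⟩, ⟨0, 0, 1, 1⟩⟩,
  ⟨⟨1, 0, 0, 0⟩, ⟨0, 1, 0, 0⟩, ⟨0, 0, 1, 1⟩, ⟨0, 0, 0, -1⟩⟩]

/-- a parabolic subgroup of type B3 -/
def LA : List M4 := [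
  ⟨⟨1, 0, 0, 0⟩, ⟨0, 1, 0, 0⟩, ⟨0, 0, 1, 0⟩, ⟨0, 0, 0, 1⟩⟩,
  ⟨⟨1, 0, 0, 0⟩, ⟨0, 1, 0, 0⟩, ⟨0, 0, 1, 1⟩, ⟨0, 0, 0, -1⟩⟩,
  ⟨⟨1, 0, 0, 0⟩, ⟨0, 1, 1, 0⟩, ⟨0, 0, -1, 0⟩, ⟨0, 0, 1, 1⟩⟩,
  ⟨⟨1, 0, 0, 0⟩, ⟨0, 1, 1, 0⟩, ⟨0, 0, 0, 1⟩, ⟨0, 0, -1, -1⟩⟩,
  ⟨⟨1, 0, 0, 0⟩, ⟨0, 1, 1, 1⟩, ⟨0, 0, -1, -1⟩, ⟨0, 0, 1, 0⟩⟩,
  ⟨⟨1, 0, 0, 0⟩, ⟨0, 1, 1, 1⟩, ⟨0, 0, 0, -1⟩, ⟨0, 0, -1, 0⟩⟩,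
  ⟨⟨1, 1, 0, 0⟩, ⟨0, -1, 0, 0⟩, ⟨0, 2, 1, 0⟩, ⟨0, 0, 0, 1⟩⟩,
  ⟨⟨1, 1, 0, 0⟩, ⟨0, -1, 0, 0⟩, ⟨0, 2, 1, 1⟩, ⟨0, 0, 0, -1⟩⟩,
  ⟨⟨1, 1, 0, 0⟩, ⟨0, 1, 1, 0⟩, ⟨0, -2, -1, 0⟩, ⟨0, 2, 1, 1⟩⟩,
  ⟨⟨1, 1, 0, 0⟩, ⟨0, 1, 1, 0⟩, ⟨0, 0, 0, 1⟩, ⟨0, -2, -1, -1⟩⟩,
  ⟨⟨1, 1, 0, 0⟩, ⟨0, 1, 1, 1⟩, ⟨0, -2, -1, -1⟩, ⟨0, 2, 1, 0⟩⟩,
  ⟨⟨1, 1, 0, 0⟩, ⟨0, 1, 1, 1⟩, ⟨0, 0, 0, -1⟩, ⟨0, -2, -1, 0⟩⟩,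
  ⟨⟨1, 1, 1, 0⟩, ⟨0, -1, -1, 0⟩, ⟨0, 2, 1, 0⟩, ⟨0, 0, 1, 1⟩⟩,
  ⟨⟨1, 1, 1, 0⟩, ⟨0, -1, -1, 0⟩, ⟨0, 2, 2, 1⟩, ⟨0, 0, -1, -1⟩⟩,
  ⟨⟨1, 1, 1, 0⟩, ⟨0, 1, 0, 0⟩, ⟨0, -2, -1, 0⟩, ⟨0, 2, 2, 1⟩⟩,
  ⟨⟨1, 1, 1, 0⟩, ⟨0, 1, 0, 0⟩, ⟨0, 0, 1, 1⟩, ⟨0, -2, -2, -1⟩⟩,
  ⟨⟨1, 1, 1, 0⟩, ⟨0, 1, 1, 1⟩, ⟨0, -2, -2, -1⟩, ⟨0, 2, 1, 0⟩⟩,
  ⟨⟨1, 1, 1, 0⟩, ⟨0, 1, 1, 1⟩, ⟨0, 0, -1, -1⟩, ⟨0, -2, -1, 0⟩⟩,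
  ⟨⟨1, 1, 1, 1⟩, ⟨0, -1, -1, -1⟩, ⟨0, 2, 1, 1⟩, ⟨0, 0, 1, 0⟩⟩,
  ⟨⟨1, 1, 1, 1⟩, ⟨0, -1, -1, -1⟩, ⟨0, 2, 2, 1⟩, ⟨0, 0, -1, 0⟩⟩,
  ⟨⟨1, 1, 1, 1⟩, ⟨0, 1, 0, 0⟩, ⟨0, -2, -1, -1⟩, ⟨0, 2, 2, 1⟩⟩,
  ⟨⟨1, 1, 1, 1⟩, ⟨0, 1, 0, 0⟩, ⟨0, 0, 1, 0⟩, ⟨0, -2, -2, -1⟩⟩,
  ⟨⟨1, 1, 1, 1⟩, ⟨0, 1, 1, 0⟩, ⟨0, -2, -2, -1⟩, ⟨0, 2, 1, 1⟩⟩,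
  ⟨⟨1, 1, 1, 1⟩, ⟨0, 1, 1, 0⟩, ⟨0, 0, -1, 0⟩, ⟨0, -2, -1, -1⟩⟩,
  ⟨⟨1, 2, 1, 0⟩, ⟨0, -1, -1, 0⟩, ⟨0, 0, 1, 0⟩, ⟨0, 2, 1, 1⟩⟩,
  ⟨⟨1, 2, 1, 0⟩, ⟨0, -1, -1, 0⟩, ⟨0, 2, 2, 1⟩, ⟨0, -2, -1, -1⟩⟩,
  ⟨⟨1, 2, 1, 0⟩, ⟨0, -1, 0, 0⟩, ⟨0, 0, -1, 0⟩, ⟨0, 2, 2, 1⟩⟩,
  ⟨⟨1, 2, 1, 0⟩, ⟨0, -1, 0, 0⟩, ⟨0, 2, 1, 1⟩, ⟨0, -2, -2, -1⟩⟩,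
  ⟨⟨1, 2, 1, 0⟩, ⟨0, 1, 1, 1⟩, ⟨0, -2, -2, -1⟩, ⟨0, 0, 1, 0⟩⟩,
  ⟨⟨1, 2, 1, 0⟩, ⟨0, 1, 1, 1⟩, ⟨0, -2, -1, -1⟩, ⟨0, 0, -1, 0⟩⟩,
  ⟨⟨1, 2, 1, 1⟩, ⟨0, -1, -1, -1⟩, ⟨0, 0, 1, 1⟩, ⟨0, 2, 1, 0⟩⟩,
  ⟨⟨1, 2, 1, 1⟩, ⟨0, -1, -1, -1⟩, ⟨0, 2, 2, 1⟩, ⟨0, -2, -1, 0⟩⟩,
  ⟨⟨1, 2, 1, 1⟩, ⟨0, -1, 0, 0⟩, ⟨0, 0, -1, -1⟩, ⟨0, 2, 2, 1⟩⟩,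
  ⟨⟨1, 2, 1, 1⟩, ⟨0, -1, 0, 0⟩, ⟨0, 2, 1, 0⟩, ⟨0, -2, -2, -1⟩⟩,
  ⟨⟨1, 2, 1, 1⟩, ⟨0, 1, 1, 0⟩, ⟨0, -2, -2, -1⟩, ⟨0, 0, 1, 1⟩⟩,
  ⟨⟨1, 2, 1, 1⟩, ⟨0, 1, 1, 0⟩, ⟨0, -2, -1, 0⟩, ⟨0, 0, -1, -1⟩⟩,
  ⟨⟨1, 2, 2, 1⟩, ⟨0, -1, -1, -1⟩, ⟨0, 0, 0, 1⟩, ⟨0, 2, 1, 0⟩⟩,
  ⟨⟨1, 2, 2, 1⟩, ⟨0, -1, -1, -1⟩, ⟨0, 2, 1, 1⟩, ⟨0, -2, -1, 0⟩⟩,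
  ⟨⟨1, 2, 2, 1⟩, ⟨0, -1, -1, 0⟩, ⟨0, 0, 0, -1⟩, ⟨0, 2, 1, 1⟩⟩,
  ⟨⟨1, 2, 2, 1⟩, ⟨0, -1, -1, 0⟩, ⟨0, 2, 1, 0⟩, ⟨0, -2, -1, -1⟩⟩,
  ⟨⟨1, 2, 2, 1⟩, ⟨0, 1, 0, 0⟩, ⟨0, -2, -1, -1⟩, ⟨0, 0, 0, 1⟩⟩,
  ⟨⟨1, 2, 2, 1⟩, ⟨0, 1, 0, 0⟩, ⟨0, -2, -1, 0⟩, ⟨0, 0, 0, -1⟩⟩,
  ⟨⟨1, 3, 2, 1⟩, ⟨0, -1, -1, -1⟩, ⟨0, 0, 0, 1⟩, ⟨0, 0, 1, 0⟩⟩,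
  ⟨⟨1, 3, 2, 1⟩, ⟨0, -1, -1, -1⟩, ⟨0, 0, 1, 1⟩, ⟨0, 0, -1, 0⟩⟩,
  ⟨⟨1, 3, 2, 1⟩, ⟨0, -1, -1, 0⟩, ⟨0, 0, 0, -1⟩, ⟨0, 0, 1, 1⟩⟩,
  ⟨⟨1, 3, 2, 1⟩, ⟨0, -1, -1, 0⟩, ⟨0, 0, 1, 0⟩, ⟨0, 0, -1, -1⟩⟩,
  ⟨⟨1, 3, 2, 1⟩, ⟨0, -1, 0, 0⟩, ⟨0, 0, -1, -1⟩, ⟨0, 0, 0, 1⟩⟩,
  ⟨⟨1, 3, 2, 1⟩, ⟨0, -1, 0, 0⟩, ⟨0, 0, -1, 0⟩, ⟨0, 0, 0, -1⟩⟩]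

/-- representatives of its cosets -/
def LC : List M4 := [
  ⟨⟨1, 0, 0, 0⟩, ⟨0, 1, 0, 0⟩, ⟨0, 0, 1, 0⟩, ⟨0, 0, 0, 1⟩⟩,
  ⟨⟨-1, 0, 0, 0⟩, ⟨1, 1, 0, 0⟩, ⟨0, 0, 1, 0⟩, ⟨0, 0, 0, 1⟩⟩,
  ⟨⟨-1, -1, 0, 0⟩, ⟨1, 0, 0, 0⟩, ⟨0, 2, 1, 0⟩, ⟨0, 0, 0, 1⟩⟩,
  ⟨⟨-1, -1, -1, 0⟩, ⟨1, 0, 0, 0⟩, ⟨0, 2, 1, 0⟩, ⟨0, 0, 1, 1⟩⟩,
  ⟨⟨-1, -2, -1, 0⟩, ⟨1, 1, 0, 0⟩, ⟨0, 0, 1, 0⟩, ⟨0, 2, 1, 1⟩⟩,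
  ⟨⟨-1, -1, -1, -1⟩, ⟨1, 0, 0, 0⟩, ⟨0, 2, 1, 1⟩, ⟨0, 0, 1, 0⟩⟩,
  ⟨⟨-1, -2, -1, 0⟩, ⟨0, 1, 0, 0⟩, ⟨0, 0, 1, 0⟩, ⟨2, 2, 1, 1⟩⟩,
  ⟨⟨-1, -2, -1, -1⟩, ⟨1, 1, 0, 0⟩, ⟨0, 0, 1, 1⟩, ⟨0, 2, 1, 0⟩⟩,
  ⟨⟨-1, -2, -1, -1⟩, ⟨0, 1, 0, 0⟩, ⟨0, 0, 1, 1⟩, ⟨2, 2, 1, 0⟩⟩,
  ⟨⟨-1, -2, -2, -1⟩, ⟨1, 1, 1, 0⟩, ⟨0, 0, 0, 1⟩, ⟨0, 2, 1, 0⟩⟩,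
  ⟨⟨-1, -2, -2, -1⟩, ⟨0, 1, 1, 0⟩, ⟨0, 0, 0, 1⟩, ⟨2, 2, 1, 0⟩⟩,
  ⟨⟨-1, -3, -2, -1⟩, ⟨1, 2, 1, 0⟩, ⟨0, 0, 0, 1⟩, ⟨0, 0, 1, 0⟩⟩,
  ⟨⟨-1, -3, -2, -1⟩, ⟨0, 1, 1, 0⟩, ⟨0, 0, 0, 1⟩, ⟨2, 2, 1, 0⟩⟩,
  ⟨⟨-2, -3, -2, -1⟩, ⟨1, 2, 1, 0⟩, ⟨0, 0, 0, 1⟩, ⟨0, 0, 1, 0⟩⟩,
  ⟨⟨-2, -3, -2, -1⟩, ⟨1, 1, 1, 0⟩, ⟨0, 0, 0, 1⟩, ⟨0, 2, 1, 0⟩⟩,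
  ⟨⟨-1, -3, -2, -1⟩, ⟨0, 1, 0, 0⟩, ⟨0, 0, 1, 1⟩, ⟨2, 2, 1, 0⟩⟩,
  ⟨⟨-2, -3, -2, -1⟩, ⟨1, 1, 0, 0⟩, ⟨0, 0, 1, 1⟩, ⟨0, 2, 1, 0⟩⟩,
  ⟨⟨-1, -3, -2, -1⟩, ⟨0, 1, 0, 0⟩, ⟨0, 0, 1, 0⟩, ⟨2, 2, 1, 1⟩⟩,
  ⟨⟨-2, -3, -2, -1⟩, ⟨1, 0, 0, 0⟩, ⟨0, 2, 1, 1⟩, ⟨0, 0, 1, 0⟩⟩,
  ⟨⟨-2, -3, -2, -1⟩, ⟨1, 1, 0, 0⟩, ⟨0, 0, 1, 0⟩, ⟨0, 2, 1, 1⟩⟩,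
  ⟨⟨-2, -3, -2, -1⟩, ⟨1, 0, 0, 0⟩, ⟨0, 2, 1, 0⟩, ⟨0, 0, 1, 1⟩⟩,
  ⟨⟨-2, -3, -2, -1⟩, ⟨1, 0, 0, 0⟩, ⟨0, 2, 1, 0⟩, ⟨0, 0, 0, 1⟩⟩,
  ⟨⟨-2, -3, -2, -1⟩, ⟨1, 1, 0, 0⟩, ⟨0, 0, 1, 0⟩, ⟨0, 0, 0, 1⟩⟩,
  ⟨⟨-1, -3, -2, -1⟩, ⟨0, 1, 0, 0⟩, ⟨0, 0, 1, 0⟩, ⟨0, 0, 0, 1⟩⟩]


def mem4 (M : M4) (L : List M4) : Bool := L.any (meq M)

theorem mem4_sound {M : M4} {L : List M4} (h : mem4 M L = true) : M ∈ L := by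
  unfold mem4 at h
  rw [List.any_eq_true] at h
  obtain ⟨x, hx, h1⟩ := h
  rw [meq_sound h1]; exact hx

def chkA : Bool := mem4 i4 LA && LA.all fun A => S4.tail.all fun s => mem4 (mm A s) LA

def chkC : Bool := mem4 i4 LC && LC.all fun c => S4.all fun s => mem4 (mm c s) LC || S4.tail.any fun s' => meq (mm c s) (mm s' c)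

theorem chkA_ok : chkA = true := by decide +kernel

theorem chkC_ok : chkC = true := by decide +kernel

/-- positive roots of the subsystem of type B3 -/
def PB3 : List Q4 := [⟨0, 0, 0, 1⟩, ⟨0, 0, 1, 0⟩, ⟨0, 0, 1, 1⟩, ⟨0, 1, 0, 0⟩, ⟨0, 1, 1, 0⟩, ⟨0, 1, 1, 1⟩, ⟨0, 2, 1, 0⟩, ⟨0, 2, 1, 1⟩, ⟨0, 2, 2, 1⟩]

/-- positive roots of the subsystem of type B2 -/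
def PB2 : List Q4 := [⟨0, 0, 1, 0⟩, ⟨0, 1, 0, 0⟩, ⟨0, 1, 1, 0⟩, ⟨0, 2, 1, 0⟩]

/-- the vectors `x, xN` and the rows of `P` span a lattice of index dividing a power of six -/
def good (x : Q4) (N P : M4) : Bool :=
  sm (mdet P) || sm (det4 x P.r0 P.r1 P.r2) || sm (det4 x P.r0 P.r1 P.r3) || sm (det4 x P.r0 P.r2 P.r3) || sm (det4 x P.r1 P.r2 P.r3) ||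
  sm (det4 x (vm x N) P.r0 P.r1) || sm (det4 x (vm x N) P.r0 P.r2) || sm (det4 x (vm x N) P.r0 P.r3) ||
  sm (det4 x (vm x N) P.r1 P.r2) || sm (det4 x (vm x N) P.r1 P.r3) || sm (det4 x (vm x N) P.r2 P.r3)

def isa (N : M4) : Bool := decide (N.r0.a = 1) && (decide (N.r1.a = 0) && (decide (N.r2.a = 0) && decide (N.r3.a = 0)))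
def isd (N : M4) : Bool := decide (N.r0.d = 0) && (decide (N.r1.d = 0) && (decide (N.r2.d = 0) && decide (N.r3.d = 1)))

/-- the check for an element of the Weyl group -/
def okN (N : M4) : Bool :=
  (let a := sm (mdet (ph3 N)); let b := sm (mdet (ph4 N)); let c := sm (mdet (ph6 N)); (a || b) && ((a || c) && (b || c))) &&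
  (!(isa N) || ((PB3.all fun x => good x N (ph3 N) && good x N (ph6 N)) && (!(isd N) || PB2.all fun x => good x N (ph4 N))))

theorem okAll : (LA.all fun A => LC.all fun c => okN (mm A c)) = true := by decide +kernel

end Cfsg.Agent.ChevPG
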